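import Cfsg.Agent.Lib.Golay.InvolLocal.OctadInvolution

/-!
The centralizer of an involution fixing an octad as affine maps of the sixteen points outside the
octad: the centralizer of a transvection in the special linear group of degree five.
-/

set_option autoImplicit false
set_option maxRecDepth 20000
set_option linter.style.haveILetI false

namespace CfsgLib.Golay.OctadInvol

open Cfsg CfsgLib.Golay CfsgLib.Golay.SylowTwo
open scoped Pointwise

attribute [local irreducible] idP toPerm mulP validP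

/-- coordinates of the pointwise stabilizer -/
abbrev Co := (Fin 3 → ZMod 2) × ZMod 2

/-- vectors of length five -/
abbrev V5 := Fin 5 → ZMod 2

/-- the element with given coordinates -/
noncomputable def psE (d : Co) : ↥M24 := psi (Multiplicative.ofAdd d)

/-- the point with given coordinates -/
noncomputable def emb (d : Co) : GolayPt := (psE d : Equiv.Perm GolayPt) (pt 4)

theorem psE_add (d e : Co) : psE (d + e) = psE d * psE e := by
  rw [psE, psE, psE, ← Subgroup.coe_mul, ← map_mul, ← ofAdd_add]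

theorem psE_mem (d : Co) : psE d ∈ E0 := (psi _).2

theorem psE_injective : Function.Injective psE := fun _ _ h =>
  Multiplicative.ofAdd.injective (psi_bijective.1 (Subtype.ext h))

theorem psE_surj {x : ↥M24} (h : x ∈ E0) : ∃ d, psE d = x := by
  obtain ⟨t, ht⟩ := psi_bijective.2 ⟨x, h⟩
  exact ⟨t.toAdd, congrArg Subtype.val ht⟩

theorem psE_Z : psE (0, 1) = Z := psi_zero_one

theorem mem_fixF6_of_E0 {x : ↥M24} (h : x ∈ E0) : (x : Equiv.Perm GolayPt) ∈ fixH M24 F6 := by
  rw [← show fixH M24 oct0 = fixH M24 F6 from fix_oct0_eq]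
  exact Subgroup.mem_subgroupOf.1 h

theorem free_check : (trans6.all fun P => ap P 4 != 4 || eqP P idP) = true := by decide +kernel

theorem eq_one_of_fix4 {x : ↥M24} (h : x ∈ E0) (h4 : (x : Equiv.Perm GolayPt) (pt 4) = pt 4) :
    x = 1 := by
  obtain ⟨P, hP, hv, e⟩ := mem_fixF6 (mem_fixF6_of_E0 h)
  have h' := List.all_eq_true.1 free_check P hP
  have hap : ap P 4 = 4 := by
    have := congrArg idx h4
    rwa [e, idx_toPerm hv, idx_pt 4 (by norm_num)] at this
  simp only [hap, bne_self_eq_false, Bool.false_or] at h'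
  exact val_eq_of_eqP e (by rw [Subgroup.coe_one, toPerm_idP]) hv validP_idP h'

theorem emb_injective : Function.Injective emb := by
  intro d e h
  refine psE_injective ?_
  have h1 : (((psE e)⁻¹ * psE d : ↥M24) : Equiv.Perm GolayPt) (pt 4) = pt 4 := by
    rw [Subgroup.coe_mul, Equiv.Perm.mul_apply, InvMemClass.coe_inv, Equiv.Perm.inv_eq_iff_eq]
    exact h
  exact (inv_mul_eq_one.1 (eq_one_of_fix4 (mul_mem (inv_mem (psE_mem e)) (psE_mem d)) h1)).symm

theorem pt4_notMem : pt 4 ∉ dec oct0 := by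
  rw [mem_dec, idx_pt 4 (by norm_num)]
  decide +kernel

theorem outside_checks : oct0 ^^^ fullMask = 8241104 ∧ atom F6 [oct0] 4 = 8241104 ∧
    stagesOK 8241104
      [([0, 1, 2, 3, 5, 14, 17, 23], [1134148, 1060490, 69395, 2101096, 675712])] = true := by
  decide +kernel

theorem exists_emb {p : GolayPt} (hp : p ∉ dec oct0) : ∃ d, emb d = p := by
  obtain ⟨h1, h2, -⟩ := trans6_chk
  obtain ⟨hx, hat, -⟩ := outside_checks
  have hi : (atom F6 [oct0] 4).testBit (idx p) = true := by
    rw [hat, ← hx, Nat.testBit_xor, testBit_fullMask, decide_eq_true (idx_lt p)]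
    rw [mem_dec, Bool.not_eq_true] at hp
    rw [hp]; rfl
  have h3 := List.all_eq_true.1 h2 _ (List.mem_range.2 (idx_lt p))
  simp only [hi, Bool.not_true, Bool.false_or, List.any_eq_true, beq_iff_eq] at h3
  obtain ⟨P, hP, hP4⟩ := h3
  have hPc := List.all_eq_true.1 h1 P hP
  rw [Bool.and_eq_true] at hPc
  have hv := valid_of_inM24' hPc.1
  have hmem : el P ∈ E0 := Subgroup.mem_subgroupOf.2 (by
    rw [show fixH M24 oct0 = fixH M24 F6 from fix_oct0_eq, el_val hPc.1]
    exact mem_fixH.2 ⟨toPerm_mem_M24 hPc.1, fun q hq => fixes_apply hv hPc.2 hq⟩)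
  obtain ⟨d, hd⟩ := psE_surj hmem
  refine ⟨d, idx_injective ?_⟩
  rw [emb, hd, el_val hPc.1, idx_toPerm hv, idx_pt 4 (by norm_num), hP4]

/-- the homogeneous vector of a point -/
def vec (d : Co) : V5 := ![d.2, 1, d.1 0, d.1 1, d.1 2]

/-- its linear part -/
def lin : Co →+ V5 where
  toFun d := ![d.2, 0, d.1 0, d.1 1, d.1 2]
  map_zero' := by ext i; fin_cases i <;> rfl
  map_add' d e := by ext i; fin_cases i <;> simp

/-- the coordinates of a vector -/
def proj : V5 →+ Co where
  toFun w := (![w 2, w 3, w 4], w 0)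
  map_zero' := by ext i <;> first | rfl | (fin_cases i <;> rfl)
  map_add' v w := by ext i <;> first | rfl | (fin_cases i <;> rfl)

theorem proj_vec (d : Co) : proj (vec d) = d := by
  ext i <;> first | rfl | (fin_cases i <;> rfl)

theorem vec_eq (d : Co) : vec d = lin d + Pi.single 1 1 := by
  ext i
  fin_cases i <;> simp [vec, lin]

theorem vec_injective : Function.Injective vec := fun a b h => by rw [← proj_vec a, h, proj_vec]

/-- `M` describes `x` on the points outside the octad -/
def Rep (x : ↥M24) (M : Matrix (Fin 5) (Fin 5) (ZMod 2)) : Prop :=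
  ∀ d, ∃ d', (x : Equiv.Perm GolayPt) (emb d) = emb d' ∧ M.mulVec (vec d) = vec d'

theorem rep_unique {x : ↥M24} {M N : Matrix (Fin 5) (Fin 5) (ZMod 2)} (hM : Rep x M) (hN : Rep x N) :
    M = N := by
  have h : ∀ d, M.mulVec (vec d) = N.mulVec (vec d) := fun d => by
    obtain ⟨a, ha, ha'⟩ := hM d
    obtain ⟨b, hb, hb'⟩ := hN d
    rw [ha', hb', emb_injective (ha.symm.trans hb)]
  refine Matrix.ext_iff_mulVec.2 fun w => ?_
  have hw : w = (vec (proj w) - vec 0) + w 1 • vec 0 := by
    ext i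
    fin_cases i <;> simp [vec, proj]
  rw [hw]
  simp only [Matrix.mulVec_add, Matrix.mulVec_sub, Matrix.mulVec_smul, h]

theorem rep_mul {x y : ↥M24} {M N : Matrix (Fin 5) (Fin 5) (ZMod 2)} (hM : Rep x M) (hN : Rep y N) :
    Rep (x * y) (M * N) := fun d => by
  obtain ⟨a, ha, ha'⟩ := hN d
  obtain ⟨b, hb, hb'⟩ := hM a
  exact ⟨b, by rw [Subgroup.coe_mul, Equiv.Perm.mul_apply, ha, hb],
    by rw [← Matrix.mulVec_mulVec, ha', hb']⟩

theorem rep_one : Rep 1 1 := fun d => ⟨d, rfl, Matrix.one_mulVec _⟩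

theorem exists_rep {x : ↥M24} (hx : x ∈ C0) : ∃ M, Rep x M ∧
    (∀ w, M.mulVec w 1 = w 1) ∧ M.mulVec (Pi.single 0 1) = Pi.single 0 1 := by
  have hxO := smul_oct0_of_comm (Subgroup.mem_centralizer_singleton_iff.1 hx)
  have hx4 : (x : Equiv.Perm GolayPt) (pt 4) ∉ dec oct0 := fun h => pt4_notMem (by
    rw [← hxO] at h
    exact (Finset.smul_mem_smul_finset_iff _).1 h)
  obtain ⟨v, hv⟩ := exists_emb hx4
  have hc : ∀ d, ∃ d', psE d' = x * psE d * x⁻¹ := fun d => psE_surj (conj_E0 hxO (psE_mem d))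
  choose a ha using hc
  let α : Co →+ Co := AddMonoidHom.mk' a fun d e => psE_injective (by
    rw [psE_add, ha, ha, ha, psE_add]; group)
  let L : V5 →+ V5 := AddMonoidHom.mk' (fun w => lin (α (proj w)) + w 1 • vec v) fun w u => by
    rw [map_add, map_add, map_add, Pi.add_apply, add_smul]
    abel
  refine ⟨LinearMap.toMatrix' (L.toZModLinearMap 2), fun d => ⟨α d + v, ?_, ?_⟩, fun w => ?_, ?_⟩
  · show (x : Equiv.Perm GolayPt) (emb d) = (psE (α d + v) : Equiv.Perm GolayPt) (pt 4)
    rw [psE_add, show psE (α d) = x * psE d * x⁻¹ from ha d]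
    simp only [Subgroup.coe_mul, InvMemClass.coe_inv, Equiv.Perm.mul_apply]
    rw [← emb, hv, Equiv.Perm.inv_def, Equiv.symm_apply_apply]
    rfl
  · rw [LinearMap.toMatrix'_mulVec]
    show lin (α (proj (vec d))) + vec d 1 • vec v = _
    rw [proj_vec, show vec d 1 = 1 from rfl, one_smul, vec_eq v, vec_eq, map_add, add_assoc]
  · rw [LinearMap.toMatrix'_mulVec]
    show (lin (α (proj w)) + w 1 • vec v) 1 = w 1
    simp [lin, vec]
  · rw [LinearMap.toMatrix'_mulVec]
    show lin (α (proj (Pi.single 0 1))) + (Pi.single 0 1 : V5) 1 • vec v = _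
    have hp : proj (Pi.single 0 1) = (0, 1) := by
      ext i <;> first | rfl | (fin_cases i <;> rfl)
    have hz : α (0, 1) = (0, 1) := psE_injective (by
      show psE (a (0, 1)) = _
      rw [ha, psE_Z, Subgroup.mem_centralizer_singleton_iff.1 hx, mul_inv_cancel_right])
    rw [hp, hz]
    ext i
    fin_cases i <;> simp [lin]

/-- the matrix of an element -/
noncomputable def aff : ↥C0 →* Matrix (Fin 5) (Fin 5) (ZMod 2) where
  toFun x := (exists_rep x.2).choose
  map_one' := rep_unique (exists_rep (1 : ↥C0).2).choose_spec.1 rep_one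
  map_mul' x y := rep_unique (exists_rep (x * y).2).choose_spec.1
    (rep_mul (exists_rep x.2).choose_spec.1 (exists_rep y.2).choose_spec.1)

theorem aff_spec (x : ↥C0) : Rep x (aff x) ∧ (∀ w, (aff x).mulVec w 1 = w 1) ∧
    (aff x).mulVec (Pi.single 0 1) = Pi.single 0 1 :=
  (exists_rep x.2).choose_spec

theorem det_aff (x : ↥C0) : (aff x).det = 1 := by
  have h : (aff x).det * (aff x⁻¹).det = 1 := by
    rw [← Matrix.det_mul, ← map_mul, mul_inv_cancel, map_one, Matrix.det_one]
  revert h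
  generalize (aff x).det = a
  generalize (aff x⁻¹).det = b
  revert a b
  decide

/-- the homomorphism to the special linear group -/
noncomputable def affSL : ↥C0 →* Matrix.SpecialLinearGroup (Fin 5) (ZMod 2) where
  toFun x := ⟨aff x, det_aff x⟩
  map_one' := Subtype.ext (map_one aff)
  map_mul' x y := Subtype.ext (map_mul aff x y)

theorem affSL_injective : Function.Injective affSL := by
  rw [← MonoidHom.ker_eq_bot_iff, Subgroup.eq_bot_iff_forall]
  intro x hx
  have h1 : aff x = 1 := congrArg (fun A : Matrix.SpecialLinearGroup (Fin 5) (ZMod 2) => (A : Matrix (Fin 5) (Fin 5) (ZMod 2))) (MonoidHom.mem_ker.1 hx)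
  have hfix : ∀ d, ((x : ↥M24) : Equiv.Perm GolayPt) (emb d) = emb d := fun d => by
    obtain ⟨d', hd, hd'⟩ := (aff_spec x).1 d
    rw [h1, Matrix.one_mulVec] at hd'
    rw [hd, vec_injective hd']
  obtain ⟨hx', -, hst⟩ := outside_checks
  refine Subtype.ext (Subtype.ext (eq_one_of_stages (x : ↥M24).2 _ _ hst fun p hp => ?_))
  have hp' : p ∉ dec oct0 := by
    rw [mem_dec, ← hx', Nat.testBit_xor, testBit_fullMask, decide_eq_true (idx_lt p)] at hp
    rw [mem_dec]
    intro hc
    rw [hc] at hp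
    simp at hp
  obtain ⟨d, rfl⟩ := exists_emb hp'
  exact hfix d

theorem affSL_comm {s : Matrix.SpecialLinearGroup (Fin 5) (ZMod 2)}
    (hs : (s : Matrix (Fin 5) (Fin 5) (ZMod 2)) = Matrix.transvection 0 1 1) (x : ↥C0) :
    affSL x ∈ Subgroup.centralizer ({s} : Set (Matrix.SpecialLinearGroup (Fin 5) (ZMod 2))) := by
  rw [Subgroup.mem_centralizer_singleton_iff]
  refine Subtype.ext (Matrix.ext_iff_mulVec.2 fun w => ?_)
  obtain ⟨-, h1, h0⟩ := aff_spec x
  have ht : ∀ u : V5, (Matrix.transvection (0 : Fin 5) 1 (1 : ZMod 2)).mulVec u = u + u 1 • Pi.single 0 1 := by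
    intro u
    rw [Matrix.transvection, Matrix.add_mulVec, Matrix.one_mulVec, Matrix.single_mulVec]
    ext i
    fin_cases i <;> simp [Function.update]
  simp only [Matrix.SpecialLinearGroup.coe_mul, hs]
  rw [← Matrix.mulVec_mulVec, ← Matrix.mulVec_mulVec, ht, ht]
  show (aff x).mulVec (w + w 1 • Pi.single 0 1) = (aff x).mulVec w + (aff x).mulVec w 1 • Pi.single 0 1
  rw [Matrix.mulVec_add, Matrix.mulVec_smul, h0, h1]

/-- the middle block -/
def blk (M : Matrix (Fin 5) (Fin 5) (ZMod 2)) : Matrix (Fin 3) (Fin 3) (ZMod 2) :=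
  Matrix.of fun i j => M (![2, 3, 4] i) (![2, 3, 4] j)

theorem idx3_ne : ∀ i : Fin 3, (![2, 3, 4] i : Fin 5) ≠ 0 ∧ (![2, 3, 4] i : Fin 5) ≠ 1 := by decide

theorem one_idx3 : ∀ i j : Fin 3,
    (1 : Matrix (Fin 5) (Fin 5) (ZMod 2)) (![2, 3, 4] i) (![2, 3, 4] j) = (1 : Matrix (Fin 3) (Fin 3) (ZMod 2)) i j := by
  intro i j
  fin_cases i <;> fin_cases j <;> rfl

theorem natCard_centralizer_le {s : Matrix.SpecialLinearGroup (Fin 5) (ZMod 2)}
    (hs : (s : Matrix (Fin 5) (Fin 5) (ZMod 2)) = Matrix.transvection 0 1 1) :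
    Nat.card ↥(Subgroup.centralizer ({s} : Set (Matrix.SpecialLinearGroup (Fin 5) (ZMod 2)))) ≤ 21504 := by
  classical
  set C := Subgroup.centralizer ({s} : Set (Matrix.SpecialLinearGroup (Fin 5) (ZMod 2)))
  have hshape : ∀ g ∈ C, (g : Matrix (Fin 5) (Fin 5) (ZMod 2)) 0 0 = (g : Matrix (Fin 5) (Fin 5) (ZMod 2)) 1 1 ∧
      (∀ i : Fin 5, i ≠ 0 → (g : Matrix (Fin 5) (Fin 5) (ZMod 2)) i 0 = 0) ∧
      (∀ j : Fin 5, j ≠ 1 → (g : Matrix (Fin 5) (Fin 5) (ZMod 2)) 1 j = 0) := by
    intro g hg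
    have h : (↑(g * s) : Matrix (Fin 5) (Fin 5) (ZMod 2)) = ↑(s * g) :=
      congrArg _ (Subgroup.mem_centralizer_singleton_iff.1 hg)
    simp only [Matrix.SpecialLinearGroup.coe_mul, hs] at h
    refine ⟨?_, fun i hi => ?_, fun j hj => ?_⟩
    · have := congrFun (congrFun h 0) 1
      simp at this
      linear_combination this
    · have := congrFun (congrFun h i) 1
      simpa [Matrix.mul_transvection_apply_same, Matrix.transvection_mul_apply_of_ne, hi] using this
    · have := congrFun (congrFun h 0) j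
      simpa [Matrix.transvection_mul_apply_same, Matrix.mul_transvection_apply_of_ne, hj] using this
  have h11 : ∀ g ∈ C, (g : Matrix (Fin 5) (Fin 5) (ZMod 2)) 1 1 = 1 := by
    intro g hg
    have h := g.2
    rw [Matrix.det_succ_row (g : Matrix (Fin 5) (Fin 5) (ZMod 2)) 1] at h
    rw [Finset.sum_eq_single (1 : Fin 5) (fun j _ hj => by rw [(hshape g hg).2.2 j hj]; simp)
      (fun h' => absurd (Finset.mem_univ _) h')] at h
    rcases (show ∀ a : ZMod 2, a = 0 ∨ a = 1 by decide) ((g : Matrix (Fin 5) (Fin 5) (ZMod 2)) 1 1) with e | e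
    · rw [e] at h; simp at h
    · exact e
  have hblk : ∀ g ∈ C, (blk (g : Matrix (Fin 5) (Fin 5) (ZMod 2))).det = 1 := by
    intro g hg
    have hm : blk (g : Matrix (Fin 5) (Fin 5) (ZMod 2)) * blk ((g⁻¹ : Matrix.SpecialLinearGroup (Fin 5) (ZMod 2)) : Matrix (Fin 5) (Fin 5) (ZMod 2)) = 1 := by
      have h : (↑(g * g⁻¹) : Matrix (Fin 5) (Fin 5) (ZMod 2)) = ↑(1 : Matrix.SpecialLinearGroup (Fin 5) (ZMod 2)) :=
        congrArg _ (mul_inv_cancel g)
      rw [Matrix.SpecialLinearGroup.coe_mul, Matrix.SpecialLinearGroup.coe_one] at h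
      ext i j
      have hij := congrFun (congrFun h (![2, 3, 4] i)) (![2, 3, 4] j)
      rw [Matrix.mul_apply, Fin.sum_univ_five, (hshape g hg).2.1 _ (idx3_ne i).1,
        (hshape _ (inv_mem hg)).2.2 _ (idx3_ne j).2] at hij
      simp only [zero_mul, mul_zero, zero_add] at hij
      rw [Matrix.mul_apply, Fin.sum_univ_three]
      exact hij.trans (one_idx3 i j)
    have h := congrArg Matrix.det hm
    rw [Matrix.det_mul, Matrix.det_one] at h
    revert h
    generalize (blk (g : Matrix (Fin 5) (Fin 5) (ZMod 2))).det = a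
    generalize (blk ((g⁻¹ : Matrix.SpecialLinearGroup (Fin 5) (ZMod 2)) : Matrix (Fin 5) (Fin 5) (ZMod 2))).det = b
    revert a b
    decide
  let f : C → Matrix.SpecialLinearGroup (Fin 3) (ZMod 2) × (Fin 4 → ZMod 2) × (Fin 3 → ZMod 2) := fun g =>
    (⟨blk g.1, hblk g.1 g.2⟩, fun j => (g.1 : Matrix (Fin 5) (Fin 5) (ZMod 2)) 0 j.succ,
      fun i => (g.1 : Matrix (Fin 5) (Fin 5) (ZMod 2)) (![2, 3, 4] i) 1)
  have hinj : Function.Injective f := by
    rintro ⟨g, hg⟩ ⟨k, hk⟩ h
    obtain ⟨hb, hr, hc⟩ := Prod.ext_iff.1 h |>.imp id Prod.ext_iff.1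
    replace hb := congrArg Subtype.val hb
    obtain ⟨g0, gi, gj⟩ := hshape g hg
    obtain ⟨k0, ki, kj⟩ := hshape k hk
    refine Subtype.ext (Subtype.ext ?_)
    ext i j
    fin_cases i <;> fin_cases j <;> simp only [Fin.zero_eta, Fin.mk_one, Fin.reduceFinMk] <;>
      first
      | (rw [gi _ (by decide), ki _ (by decide)])
      | (rw [gj _ (by decide), kj _ (by decide)])
      | exact (g0.trans (h11 g hg)).trans ((k0.trans (h11 k hk)).symm)
      | exact (h11 g hg).trans (h11 k hk).symm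
      | exact congrFun hr 0
      | exact congrFun hr 1
      | exact congrFun hr 2
      | exact congrFun hr 3
      | exact congrFun hc 0
      | exact congrFun hc 1
      | exact congrFun hc 2
      | exact congrFun (congrFun hb 0) 0
      | exact congrFun (congrFun hb 0) 1
      | exact congrFun (congrFun hb 0) 2
      | exact congrFun (congrFun hb 1) 0
      | exact congrFun (congrFun hb 1) 1
      | exact congrFun (congrFun hb 1) 2
      | exact congrFun (congrFun hb 2) 0
      | exact congrFun (congrFun hb 2) 1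
      | exact congrFun (congrFun hb 2) 2
  have h := Nat.card_le_card_of_injective f hinj
  rw [Nat.card_prod, Nat.card_prod, natCard_SL32, Nat.card_fun, Nat.card_fun, Nat.card_zmod,
    Nat.card_fin, Nat.card_fin] at h
  exact h

theorem natCard_C0 : Nat.card C0 = 21504 := by
  refine le_antisymm natCard_C0_le ?_
  have h := act.ker.card_mul_index
  rw [ker_act, ← ker_act, Subgroup.index_ker,
    MonoidHom.range_eq_top.2 (Function.Surjective.of_comp (g := Subgroup.inclusion K0_le_C0) (f := act) act_K0_surjective),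
    Subgroup.card_top, natCard_SL32, ker_act, Nat.card_congr (Subgroup.subgroupOfEquivOfLe Q0_le_C0).toEquiv,
    natCard_Q0] at h
  omega

theorem centralizer_iso {s : Matrix.SpecialLinearGroup (Fin 5) (ZMod 2)}
    (hs : (s : Matrix (Fin 5) (Fin 5) (ZMod 2)) = Matrix.transvection 0 1 1) :
    Nonempty (↥C0 ≃* ↥(Subgroup.centralizer ({s} : Set (Matrix.SpecialLinearGroup (Fin 5) (ZMod 2))))) := by
  let f := affSL.codRestrict _ (affSL_comm hs)
  have hinj : Function.Injective f := fun a b h => affSL_injective (congrArg Subtype.val h)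
  refine ⟨MulEquiv.ofBijective f ((Nat.bijective_iff_injective_and_card f).2 ⟨hinj, ?_⟩)⟩
  exact le_antisymm (Nat.card_le_card_of_injective f hinj) (by rw [natCard_C0]; exact natCard_centralizer_le hs)

end CfsgLib.Golay.OctadInvol
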