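import Cfsg.Agent.Lib.Golay.SylowTwoCert
import Cfsg.Agent.Lib.Golay.MathieuFacts

/-!
Certificates for the centralizer of an involution fixing an octad: an extraspecial group of order
2^7, a complement, and the matrices of its generators.
-/

set_option autoImplicit false
set_option maxRecDepth 20000

namespace CfsgLib.Golay.OctadInvol

open Cfsg CfsgLib.Golay CfsgLib.Golay.SylowTwo

/-- an involution fixing the base octad pointwise -/
def zP : ℕ := 981818691054096003685363657089320992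

/-- three elements completing `zP` to a basis of the pointwise stabilizer of the base octad -/
def bP : List ℕ :=
  [961365507626256404119956257276790816,
    965128854020860192151391391390468128,
    971592882964418941354553515258775584]

/-- polycyclic generators of the extraspecial group -/
def qP : List ℕ :=
  [234533591037272194126618711845979137,
    610972855239753370621941044088046114, 735182055212258915281538319703348675,
    961365507626256404119956257276790816,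
    965128854020860192151391391390468128,
    971592882964418941354553515258775584,
    981818691054096003685363657089320992]

/-- its polycyclic relations -/
def qC : List (ℕ × List ℕ) :=
  [(0, [32, 16, 9, 5, 2, 1]), (0, [16, 8, 5, 2, 1]), (0, [8, 5, 3, 1]), (0, [4, 2, 1]), (0, [2, 1]), (0, [1]), (0, [])]

/-- generators of a complement -/
def kP : List ℕ := [968749616402687958560039639032346625, 980872992107838168263125701176628291]

/-- conjugators from `zP` to the involutions fixing the base octad pointwise -/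
def conjP : List ℕ := [
  984818244535754528103549039458486304, 52839016645113677241224934156566979,
  221457777504341172683512432600092119, 979133588636099978252220367147009568,
  594697614844046273170164859473660962, 28811899635411079561644607054907863,
  218737336298280276924415401807317441, 983267592860899927656936295398115886,
  602601059250923117226649527594966562, 88647427579715549324513125686345841,
  712004628386663376726139624727745632, 965382389742528220652346335554438254,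
  93883079966664782937323266188467749, 975276677507251728283521155305945632,
  233215280229183153358001691702299665]

/-- codes of the matrices with words in the two generators -/
def wordTab : List (ℕ × List (Fin 2)) := [
  (84, [0, 0, 1, 0, 0, 1, 0]), (85, [0, 0, 1, 1, 0]), (86, [1, 0, 0, 1, 0, 0, 1, 0, 1]), (87, [0, 1, 0, 1, 1, 0, 0]),
  (92, [1, 1, 0, 1, 0, 0, 1, 0, 0, 0]), (93, [1, 0, 1, 0, 0, 1]), (94, [1, 1, 0, 0, 1, 0, 1]), (95, [0, 1, 1]),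
  (98, [1, 0, 0, 1, 0]), (99, [0, 1, 0, 0, 1, 0, 1, 1]), (102, [1, 0, 1, 1, 0, 1, 1]), (103, [0, 0, 1, 1, 0, 0, 1]),
  (106, [1, 1, 0]), (107, [0, 1, 1, 0, 1]), (110, [1, 1, 0, 1, 0, 0, 1, 1]), (111, [0, 0, 0, 1, 0, 0, 0]),
  (114, [1, 0, 1, 1, 0, 1, 1, 0, 1]), (115, [1, 0, 0, 0, 1, 0]), (116, [1, 0, 0, 1, 0, 0, 1]), (117, [0, 1, 1, 0, 0, 1, 0, 0]),
  (122, [0, 0, 0, 1, 0, 1, 1, 0, 0]), (123, [1, 0, 1, 0]), (124, [1, 1, 0, 0, 1]), (125, [0, 1, 0, 0, 0]),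
  (140, [1, 0, 1, 1, 0, 1, 0]), (141, [1, 0, 0, 1, 0, 1, 1, 0]), (142, [0, 0, 0, 1, 0, 1]), (143, [0, 1, 0, 1, 1]),
  (156, [1, 1, 0, 1, 0, 0, 1, 0]), (157, [1, 1, 0, 1, 1, 0]), (158, [1, 0, 1, 0, 0, 1, 0, 0]), (159, [0, 1, 1, 0, 0]),
  (161, [1, 0, 0, 1, 0, 0, 0]), (163, [1, 1, 0, 1, 1, 0, 1, 1]), (165, [1, 0, 1, 1, 0, 1, 1, 0, 0]), (167, [0, 0, 1, 1, 0, 0, 1, 0, 0]),
  (169, [1, 0, 1, 0, 0, 1, 0, 0, 1]), (171, [1, 0, 0, 0, 1, 0, 0, 0]), (172, [1, 1, 0, 1, 1, 0, 1]), (174, [0, 1, 1, 0, 0, 1]),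
  (177, [0, 1, 0, 1]), (179, [0, 1, 1, 0, 1, 0, 0]), (181, [1, 0, 1, 0, 0, 0, 1]), (183, [0, 0, 0, 1, 0]),
  (185, [0, 0, 0, 1, 0, 1, 1]), (187, [1, 0, 1, 0, 0, 0]), (188, [1, 1, 0, 0, 1, 0, 0]), (190, [0, 1, 0]),
  (204, [0, 1, 0, 0, 1, 0, 0, 1, 0]), (205, [0, 1, 0, 0, 1, 1, 0]), (206, [1, 0, 1, 1, 0, 0, 1, 0]), (207, [1, 0, 0]),
  (212, [0, 1, 1, 0, 1, 1, 0, 1, 0]), (213, [1, 1, 0, 0, 1, 1, 0, 1]), (214, [0, 1, 0, 0, 0, 1, 0, 1]), (215, [1]),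
  (225, [0, 1, 0, 1, 1, 0, 1, 1, 0]), (226, [1, 0, 0, 1, 1, 0, 0, 1]), (229, [0, 0, 1, 0]), (230, [0, 0, 1, 0, 0, 0]),
  (233, [1, 0, 1, 1, 0, 0, 1]), (234, [0, 1, 0, 0, 1, 1]), (236, [1, 0]), (239, [0, 1, 0, 0, 1, 0, 0, 1]),
  (241, [0, 1, 0, 0, 1, 1, 0, 0]), (242, [1, 0, 1, 1, 0, 0, 1, 0, 0]), (244, [1, 0, 0, 0]), (247, [0, 1, 1, 0, 1, 1, 0, 1]),
  (249, [0, 0, 1, 0, 0]), (250, [0, 0, 1]), (253, [0, 1, 0, 1, 1, 0, 1, 1]), (254, [1, 0, 1, 0, 0, 1, 1, 0, 1]),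
  (266, [0, 0]), (267, [0, 1, 0, 1, 1, 0, 1]), (270, [0, 0, 1, 0, 0, 1, 1]), (271, [1, 0, 1, 0, 0, 1, 1, 0]),
  (273, []), (275, [1, 1, 0, 0, 1, 1, 0]), (277, [0, 0, 1, 0, 0, 1, 1, 0, 0]), (279, [0, 1, 0, 0, 0, 1, 0]),
  (281, [0, 1, 0, 0, 1, 0, 0]), (282, [0, 1, 0, 0, 1]), (285, [1, 0, 1, 1]), (286, [1, 0, 1, 1, 0, 0]),
  (298, [1, 0, 0, 1, 1, 0, 0]), (299, [0, 0, 1, 0, 1, 1]), (302, [1, 1, 0, 1, 0, 0, 1, 0, 0, 1]), (303, [0, 0, 1, 1, 0, 1, 0]),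
  (305, [1, 0, 0, 1, 1]), (307, [0, 0, 1, 0, 1, 1, 0, 0]), (309, [1, 1, 0, 1, 1, 0, 1, 1, 0, 1]), (311, [0, 0, 1, 1, 0, 1, 0, 0, 0]),
  (313, [0, 1, 1, 0, 1, 1, 0]), (314, [0, 1, 1, 0, 0, 1, 0, 1]), (317, [1, 1, 0, 1, 0]), (318, [1, 1, 0, 1, 0, 0, 0]),
  (330, [0, 1, 1, 0, 0, 1, 0]), (331, [1, 0, 0, 0, 1]), (334, [0, 1, 1, 0, 1, 1, 0, 1, 1]), (335, [1, 1, 0, 1, 1, 0, 1, 0]),
  (337, [1, 0, 1, 0, 0, 0, 1, 0]), (339, [0, 1, 1, 0, 1, 0, 0, 0]), (340, [0, 0, 0, 1, 0, 0]), (342, [1, 1]),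
  (345, [1, 1, 0, 1, 1, 0, 0]), (346, [1, 0, 1, 0, 0, 1, 0, 0, 0]), (348, [0, 0, 1, 0, 1]), (351, [1, 1, 0, 1, 0, 0, 1, 0, 0]),
  (354, [0, 1, 0, 0]), (355, [1, 0, 1]), (358, [0, 0, 0, 1, 0, 1, 1, 0]), (359, [1, 1, 0, 0, 1, 0, 0, 0]),
  (369, [1, 0, 0, 1, 0, 1, 1, 0, 0]), (370, [0, 0, 1, 1]), (372, [0, 1, 0, 1, 1, 0]), (375, [0, 0, 1, 0, 0, 1]),
  (377, [1, 0, 1, 1, 0, 0, 1, 0, 1]), (379, [1, 1, 0, 1, 1, 0, 1, 1, 0]), (380, [0, 1, 0, 0, 1, 1, 0, 1]), (382, [1, 0, 0, 1]),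
  (394, [1, 1, 0, 1, 0, 0, 1, 1, 0]), (395, [0, 1, 1, 0, 1, 0]), (396, [0, 0, 0, 1]), (397, [1, 1, 0, 0]),
  (401, [1, 0, 0, 1, 1, 0, 1]), (403, [1, 0, 0, 0, 1, 0, 0]), (405, [0, 0, 1, 0, 0, 1, 0, 1, 1]), (407, [1, 0, 0, 1, 0, 0, 1, 0]),
  (409, [1, 0, 1, 0, 0, 1, 0]), (410, [1, 1, 0, 1, 1]), (412, [0, 1, 1, 0]), (415, [1, 1, 0, 1, 0, 0, 1]),
  (417, [0, 1]), (419, [1, 0, 1, 0, 0]), (421, [1, 1, 0, 0, 1, 1, 0, 0, 1]), (423, [1, 1, 0, 0, 1, 0]),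
  (425, [0, 0, 1, 1, 0, 0]), (426, [1, 0, 0, 1, 0, 1, 1]), (428, [0, 1, 0, 0, 1, 0, 1]), (431, [1, 0, 1, 1, 0, 1]),
  (442, [1, 0, 1, 1, 0, 1, 1, 0]), (443, [0, 1, 0, 0, 1, 0, 1, 1, 0]), (444, [0, 0, 1, 1, 0, 0, 1, 0]), (445, [1, 0, 0, 1, 0, 0]),
  (458, [1, 0, 1, 1, 0, 1, 1, 0, 1, 1]), (459, [0, 0, 1, 0, 1, 1, 0]), (460, [0, 0, 1, 1, 0, 1, 0, 0]), (461, [1, 0, 0, 0, 1, 0, 1]),
  (465, [1, 0, 0, 1, 0, 0, 1, 0, 1, 1]), (467, [0, 0, 1, 0, 0, 1, 0, 1]), (468, [0, 0, 1, 1, 0, 1]), (470, [1, 0, 0, 1, 1, 0]),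
  (473, [1, 0, 1, 1, 0]), (474, [1, 0, 0, 1, 0, 1]), (477, [0, 1, 0, 0, 1, 0]), (478, [0, 1, 0, 0, 1, 0, 0, 0]),
  (481, [1, 1, 0, 1, 0, 0]), (482, [1, 1, 0, 1]), (485, [0, 1, 1, 0, 1, 1]), (486, [0, 1, 1, 0, 1, 1, 0, 0]),
  (489, [1, 1, 0, 0, 1, 0, 1, 1]), (491, [1, 1, 0, 0, 1, 1, 0, 0]), (492, [1, 0, 1, 0, 0, 1, 1]), (494, [0]),
  (498, [0, 0, 1, 0, 0, 1, 1, 0]), (499, [1, 1, 0, 0, 1, 1]), (500, [0, 1, 0, 0, 0, 1]), (501, [0, 0, 0])]

/-- the matrices of the two generators -/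
def kMats : Fin 2 → Matrix (Fin 3) (Fin 3) (ZMod 2)
  | 0 => !![0, 1, 1; 1, 0, 1; 1, 1, 1]
  | 1 => !![1, 1, 1; 0, 1, 0; 1, 1, 0]

/-- a code of a matrix -/
def mcode (M : Matrix (Fin 3) (Fin 3) (ZMod 2)) : ℕ :=
  ((List.finRange 3).map fun i => ((List.finRange 3).map fun j => (M i j).val * 2 ^ (3 * i.val + j.val)).sum).sum

/-- `e₁^a e₂^b e₃^c` -/
def basisP (a b c : ℕ) : ℕ :=
  mulP (powP (bP.getD 0 0) a) (mulP (powP (bP.getD 1 0) b) (powP (bP.getD 2 0) c))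

/-- the involutions fixing the base octad pointwise -/
def nzP : List ℕ := trans6.filter fun P => !eqP P idP

theorem data_checks : pcOK qP qC = true ∧ qP.all inM24 = true ∧ kP.all inM24 = true ∧
    qP.drop 3 = bP ++ [zP] ∧
    ((bP ++ [zP]).all fun P => fixes P oct0) = true ∧
    ((List.range 24).all fun i => oct0.testBit i == (ap zP i == i)) = true ∧
    (qP.all fun P => eqP (mulP P zP) (mulP zP P)) = true ∧
    (kP.all fun P => eqP (mulP P zP) (mulP zP P) && ap P 23 == 23 && ap P 4 == 4) = true := by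
  decide +kernel

theorem els_checks :
    ((els qP).all fun P => eqP P idP || ap P 23 != 23 || ap P 4 != 4) = true ∧
    ((els qP).all fun P => eqP (mulP P P) idP || eqP (mulP P P) zP) = true ∧
    ((els qP).all fun P => eqP P idP || eqP P zP || qP.any fun R => !eqP (mulP P R) (mulP R P)) = true ∧
    (qP.any fun P => qP.any fun R => !eqP (mulP P R) (mulP R P)) = true := by
  decide +kernel

theorem conj_checks : nzP.length = 15 ∧ conjP.length = 15 ∧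
    ((List.range 15).all fun i => inM24 (conjP.getD i 0) && mimg (conjP.getD i 0) oct0 == oct0 &&
      eqP (mulP (conjP.getD i 0) zP) (mulP (nzP.getD i 0) (conjP.getD i 0)) &&
      validP (nzP.getD i 0) && fixes (nzP.getD i 0) oct0 &&
      (List.range 15).all fun j => i == j || !eqP (nzP.getD i 0) (nzP.getD j 0)) = true ∧
    eqP (nzP.getD 1 0) (bP.getD 0 0) = true ∧ eqP (bP.getD 0 0) zP = false ∧
    eqP (bP.getD 0 0) idP = false ∧ eqP (mulP (bP.getD 0 0) (bP.getD 0 0)) idP = true ∧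
    eqP zP idP = false ∧ eqP (mulP zP zP) idP = true := by
  decide +kernel

theorem q_action : (qP.all fun g => bP.all fun e =>
    eqP (mulP g e) (mulP e g) || eqP (mulP g e) (mulP (mulP e zP) g)) = true := by
  decide +kernel

theorem k_action : ∀ k : Fin 2, ∀ j : Fin 3, ∃ c : Fin 2,
    eqP (mulP (kP.getD k.val 0) (bP.getD j.val 0))
      (mulP (mulP (basisP (kMats k 0 j).val (kMats k 1 j).val (kMats k 2 j).val) (powP zP c.val))
        (kP.getD k.val 0)) = true := by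
  decide +kernel

theorem word_codes : (wordTab.map fun t => mcode ((t.2.map kMats).prod)) = wordTab.map Prod.fst ∧
    wordTab.length = 168 ∧ (wordTab.map Prod.fst).Pairwise (· < ·) := by
  decide +kernel

end CfsgLib.Golay.OctadInvol
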