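import Cfsg.Agent.Lib.Golay.InvolLocal.OctadInvolution

/-!
The extraspecial group in the centralizer of an involution fixing an octad is the largest normal
2-subgroup, and is large.
-/

set_option autoImplicit false
set_option maxRecDepth 20000
set_option linter.style.haveILetI false

namespace CfsgLib.Golay.OctadInvol

open Cfsg CfsgLib.Golay CfsgLib.Golay.SylowTwo CfsgLib.Extraspecial
open scoped Pointwise commutatorElement

attribute [local irreducible] idP toPerm mulP validP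

theorem inv_Z : Z⁻¹ = Z := inv_eq_of_mul_eq_one_right Z_sq

theorem comm_Z {x : ↥M24} (hx : x ∈ Q0) : x * Z = Z * x :=
  Subgroup.mem_centralizer_singleton_iff.1 (Q0_le_C0 hx)

theorem Z_mem_Q0 : Z ∈ Q0 := el_mem_Q0 zP_mem

theorem isPGroup_Q0 : IsPGroup 2 Q0 := IsPGroup.of_card natCard_Q0

theorem center_Q0 : (Subgroup.center Q0).map Q0.subtype = Subgroup.zpowers Z := by
  refine le_antisymm ?_ ?_
  · rintro _ ⟨x, hx, rfl⟩
    obtain ⟨P, hP, hv, e⟩ := mem_Q0 x.2
    have h := List.all_eq_true.1 els_checks.2.2.1 P hP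
    simp only [Bool.or_eq_true, List.any_eq_true, Bool.not_eq_true'] at h
    rw [mem_zpowers_Z]
    rcases h with (h | h) | ⟨R, hR, h⟩
    · exact Or.inl (val_eq_of_eqP e (by rw [Subgroup.coe_one, toPerm_idP]) hv validP_idP h)
    · exact Or.inr (val_eq_of_eqP e Z_val hv (valid_of_inM24' (qP_mem zP_mem)) h)
    · exfalso
      have h1 := congrArg (fun q : Q0 => ((q : ↥M24) : Equiv.Perm GolayPt))
        (Subgroup.mem_center_iff.1 hx ⟨el R, el_mem_Q0 hR⟩)
      have hvR := valid_of_inM24' (qP_mem hR)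
      simp only [Subgroup.coe_mul, el_val (qP_mem hR), e, ← toPerm_mulP hvR hv, ← toPerm_mulP hv hvR] at h1
      rw [eqP_of_toPerm_eq (validP_mulP hv hvR) (validP_mulP hvR hv) h1.symm] at h
      simp at h
  · refine Subgroup.zpowers_le.2 ⟨⟨Z, Z_mem_Q0⟩, ?_, rfl⟩
    exact Subgroup.mem_center_iff.2 fun q => Subtype.ext (comm_Z q.2)

theorem sq_Q0 {x : ↥M24} (hx : x ∈ Q0) : x * x = 1 ∨ x * x = Z := by
  obtain ⟨P, hP, hv, e⟩ := mem_Q0 hx
  have h := List.all_eq_true.1 els_checks.2.1 P hP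
  rw [Bool.or_eq_true] at h
  rcases h with h | h
  · exact Or.inl (val_eq_of_eqP (val_mul e e hv hv) (by rw [Subgroup.coe_one, toPerm_idP])
      (validP_mulP hv hv) validP_idP h)
  · exact Or.inr (val_eq_of_eqP (val_mul e e hv hv) Z_val (validP_mulP hv hv)
      (valid_of_inM24' (qP_mem zP_mem)) h)

theorem isExtraspecial_Q0 : IsExtraspecial 2 Q0 := by
  haveI : Fact (Nat.Prime 2) := ⟨Nat.prime_two⟩
  have hcen : ∀ a : Q0, (a : ↥M24) = 1 ∨ (a : ↥M24) = Z → a ∈ Subgroup.center Q0 := by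
    intro a ha
    rw [Subgroup.mem_center_iff]
    intro q
    refine Subtype.ext ?_
    rcases ha with e | e <;> simp only [Subgroup.coe_mul, e]
    · group
    · exact comm_Z q.2
  have hsq : ∀ a : Q0, a * a ∈ Subgroup.center Q0 := fun a => hcen _ (sq_Q0 a.2)
  refine isExtraspecial_of isPGroup_Q0 ?_ ?_ (fun a => by rw [pow_two]; exact hsq a) ?_
  · rw [← Subgroup.card_map_of_injective Q0.subtype_injective, center_Q0, Nat.card_zpowers, orderOf_Z]
  · intro a b
    have ha := hsq a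
    have hb := hsq b
    have e : ⁅a, b⁆ = a * b * (a * b) * (a * a)⁻¹ * (b * b)⁻¹ := by
      calc ⁅a, b⁆ = a * b * a * ((a * a)⁻¹ * b) * (b * b)⁻¹ := by rw [commutatorElement_def]; group
        _ = _ := by rw [← Subgroup.mem_center_iff.1 (inv_mem ha) b]; group
    rw [e]
    exact mul_mem (mul_mem (hsq (a * b)) (inv_mem ha)) (inv_mem hb)
  · have h := els_checks.2.2.2
    simp only [List.any_eq_true, Bool.not_eq_true'] at h
    obtain ⟨P, hP, R, hR, h⟩ := h
    refine ⟨⟨el P, el_mem_Q0 hP⟩, ⟨el R, el_mem_Q0 hR⟩, fun hc => ?_⟩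
    have hv := valid_of_inM24' (qP_mem hP)
    have hw := valid_of_inM24' (qP_mem hR)
    have h1 := congrArg (fun q : Q0 => ((q : ↥M24) : Equiv.Perm GolayPt))
      (commutatorElement_eq_one_iff_mul_comm.1 hc)
    simp only [Subgroup.coe_mul, el_val (qP_mem hP), el_val (qP_mem hR), ← toPerm_mulP hv hw,
      ← toPerm_mulP hw hv] at h1
    rw [eqP_of_toPerm_eq (validP_mulP hv hw) (validP_mulP hw hv) h1] at h
    simp at h

theorem centralizer_Q0 : Subgroup.centralizer (Q0 : Set ↥M24) = Subgroup.zpowers Z := by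
  refine le_antisymm (fun x hx => ?_) (Subgroup.zpowers_le.2 (Subgroup.mem_centralizer_iff.2 fun q hq => comm_Z hq))
  have hxq := Subgroup.mem_centralizer_iff.1 hx
  have hC : x ∈ C0 := Subgroup.mem_centralizer_singleton_iff.2 (hxq Z Z_mem_Q0).symm
  have hk : (⟨x, hC⟩ : C0) ∈ act.ker := by
    refine MonoidHom.mem_ker.2 (Subtype.ext ((act_eq (fun v => ⟨0, ?_⟩)).trans
      Matrix.SpecialLinearGroup.coe_one.symm))
    rw [Matrix.one_mulVec, pow_zero, mul_one, mul_inv_eq_iff_eq_mul]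
    exact (hxq _ (E0_le_Q0 (psi _).2)).symm
  rw [ker_act] at hk
  have hxQ : x ∈ Q0 := Subgroup.mem_subgroupOf.1 hk
  rw [← center_Q0]
  exact ⟨⟨x, hxQ⟩, Subgroup.mem_center_iff.2 fun q => Subtype.ext (hxq q q.2), rfl⟩

theorem C0_le_normalizer : C0 ≤ Subgroup.normalizer (Q0 : Set ↥M24) := by
  intro x hx
  have key : ∀ w ∈ C0, ∀ y ∈ Q0, w * y * w⁻¹ ∈ Q0 := by
    intro w hw y hy
    have h : (⟨y, Q0_le_C0 hy⟩ : C0) ∈ act.ker := ker_act.ge (Subgroup.mem_subgroupOf.2 hy)
    have := ((MonoidHom.normal_ker act).conj_mem _ h ⟨w, hw⟩)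
    exact Subgroup.mem_subgroupOf.1 (ker_act.le this)
  refine Subgroup.mem_normalizer_iff.2 fun y => ⟨key x hx y, fun h => ?_⟩
  have := key x⁻¹ (inv_mem hx) _ h
  simpa [mul_assoc] using this

theorem setting : Setting Q0 Z :=
  ⟨isExtraspecial_Q0, center_Q0, orderOf_Z, centralizer_Q0, C0_le_normalizer⟩

theorem isLarge_Q0 : IsLargeExtraspecial Q0 := by
  refine setting.isLargeExtraspecial fun K hK hQK => ?_
  obtain ⟨hlen, -, hcc, he, hez, he1, he2, -, -⟩ := conj_checks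
  simp only [List.all_eq_true, List.mem_range, Bool.and_eq_true, Bool.or_eq_true,
    Bool.not_eq_true', beq_iff_eq] at hcc
  obtain ⟨⟨⟨⟨⟨hM, hmg⟩, hge⟩, hvn⟩, -⟩, -⟩ := hcc 1 (by norm_num)
  set g := el (conjP.getD 1 0) with hg
  set u := el (bP.getD 0 0) with hu
  have hb : inM24 (bP.getD 0 0) = true := qP_mem (bP_mem 0)
  have hvb := valid_of_inM24' hb
  have hvz := valid_of_inM24' (qP_mem zP_mem)
  have hvg := valid_of_inM24' hM
  have hgz : g * Z * g⁻¹ = u := by
    rw [mul_inv_eq_iff_eq_mul]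
    refine Subtype.ext ?_
    rw [Subgroup.coe_mul, Subgroup.coe_mul, el_val hM, el_val hb, Z_val, ← toPerm_mulP hvg hvz,
      toPerm_eq_of_eqP (validP_mulP hvg hvz) (validP_mulP hvn hvg) hge, toPerm_mulP hvn hvg,
      toPerm_eq_of_eqP hvn hvb he]
  have huQ : u ∈ Q0 := el_mem_Q0 (bP_mem 0)
  refine setting.odd_eq_bot_of huQ
    (val_eq_of_eqP (val_mul (el_val hb) (el_val hb) hvb hvb) (by rw [Subgroup.coe_one, toPerm_idP])
      (validP_mulP hvb hvb) validP_idP he2) ?_ ?_ K hK hQK fun x hx hxu => ?_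
  · intro h
    have h1 := congrArg Subtype.val h
    rw [el_val hb, Subgroup.coe_one, ← toPerm_idP] at h1
    rw [eqP_of_toPerm_eq hvb validP_idP h1] at he1
    simp at he1
  · intro h
    have h1 := congrArg Subtype.val h
    rw [el_val hb, Z_val] at h1
    rw [eqP_of_toPerm_eq hvb hvz h1] at hez
    simp at hez
  · refine CfsgLib.Extraspecial.Large.commute_of_mem_core (isPGroup_Q0.map (MulAut.conj g).toMonoidHom) hK
      (hQK Z_mem_Q0) ⟨g⁻¹ * Z * g, E0_le_Q0 ?_, by simp [mul_assoc]⟩ hx fun o ho => ?_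
    · have hgo : (g : Equiv.Perm GolayPt) • dec oct0 = dec oct0 := by
        rw [el_val hM, smul_dec hvg, hmg]
      have := conj_E0 (x := g⁻¹) (by rw [InvMemClass.coe_inv, inv_smul_eq_iff, hgo])
        (el_mem_E0 (P := zP) (by decide))
      rwa [inv_inv] at this
    · have hs := setting.conj g
      rw [hgz] at hs
      exact (Subgroup.mem_normalizer_iff.1 (hs.cz (Subgroup.mem_centralizer_singleton_iff.2 hxu.symm)) o).1 ho

theorem pCore_C0 : (pCore 2 ↥C0).map C0.subtype = Q0 := by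
  haveI : Fact (Nat.Prime 2) := ⟨Nat.prime_two⟩
  have hn : (Q0.subgroupOf C0).Normal := ker_act ▸ MonoidHom.normal_ker act
  have hp : IsPGroup 2 (Q0.subgroupOf C0) :=
    isPGroup_Q0.of_equiv (Subgroup.subgroupOfEquivOfLe Q0_le_C0).symm
  have hle : pCore 2 ↥C0 ≤ act.ker := by
    have hsurj : Function.Surjective act :=
      Function.Surjective.of_comp (g := Subgroup.inclusion K0_le_C0) (f := act) act_K0_surjective
    set N := (pCore 2 ↥C0).map act with hN
    have hNn : N.Normal := (CfsgLib.Fitting.pCore_normal 2).map _ hsurj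
    have hNp : IsPGroup 2 N := (CfsgLib.Fitting.pCore_isPGroup 2).map _
    haveI : IsSimpleGroup (Matrix.ProjectiveSpecialLinearGroup (Fin 3) (ZMod 2)) :=
      CfsgLib.Classical.isSimpleGroup_PSL (by simp)
    have hz : Subgroup.center (Matrix.SpecialLinearGroup (Fin 3) (ZMod 2)) = ⊥ := by
      refine Subgroup.eq_bot_of_card_eq _ ?_
      rw [CfsgLib.Classical.card_center_SL, Nat.card_zmod]
      rfl
    let e : Matrix.ProjectiveSpecialLinearGroup (Fin 3) (ZMod 2) ≃* Matrix.SpecialLinearGroup (Fin 3) (ZMod 2) :=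
      (QuotientGroup.quotientMulEquivOfEq hz).trans QuotientGroup.quotientBot
    haveI : Nontrivial (Matrix.SpecialLinearGroup (Fin 3) (ZMod 2)) := e.symm.toEquiv.nontrivial
    rcases (hNn.comap e.toMonoidHom).eq_bot_or_eq_top with h | h
    · intro x hx
      rw [MonoidHom.mem_ker]
      have : e.symm (act x) ∈ N.comap e.toMonoidHom := by
        show e (e.symm (act x)) ∈ N
        rw [e.apply_symm_apply]
        exact Subgroup.mem_map_of_mem _ hx
      rw [h, Subgroup.mem_bot] at this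
      exact e.symm.injective (this.trans e.symm.map_one.symm)
    · exfalso
      have htop : N = ⊤ := (Subgroup.eq_top_iff' _).2 fun y => by
        have : e.symm y ∈ N.comap e.toMonoidHom := h ▸ Subgroup.mem_top _
        simpa using this
      obtain ⟨k, hk⟩ := IsPGroup.iff_card.1 hNp
      rw [htop, Subgroup.card_top, natCard_SL32] at hk
      have hd : 3 ∣ 2 ^ k := ⟨56, hk.symm⟩
      exact absurd (Nat.prime_three.dvd_of_dvd_pow hd) (by norm_num)
  rw [ker_act] at hle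
  rw [le_antisymm hle (CfsgLib.Fitting.le_pCore hn hp), Subgroup.map_subgroupOf_eq_of_le Q0_le_C0]

theorem structure_ref : ∃ E K : Subgroup ↥M24, E ≤ Q0 ∧ IsElementaryAbelian 2 E ∧ Nat.card E = 2 ^ 4 ∧
    K ≤ C0 ∧ Q0 ⊓ K = ⊥ ∧ Q0 ⊔ K = C0 ∧
    Nonempty (↥K ≃* Matrix.SpecialLinearGroup (Fin 3) (ZMod 2)) := by
  refine ⟨E0, K0, E0_le_Q0, ⟨⟨⟨fun a b => Subtype.ext (comm_E0 a.2 b.2)⟩⟩, fun a ha => by
    rw [pow_two]; exact sq_E0 ha⟩, natCard_E0, K0_le_C0, K0_inf_Q0,
    le_antisymm (sup_le Q0_le_C0 K0_le_C0) fun x hx => ?_, ⟨MulEquiv.ofBijective _ ⟨?_, act_K0_surjective⟩⟩⟩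
  · obtain ⟨k, hk⟩ := act_K0_surjective (act ⟨x, hx⟩)
    have : (⟨x, hx⟩ : C0) * (Subgroup.inclusion K0_le_C0 k)⁻¹ ∈ act.ker := by
      rw [MonoidHom.mem_ker, map_mul, map_inv, ← hk, MonoidHom.comp_apply, mul_inv_cancel]
    rw [ker_act] at this
    have h := Subgroup.mul_mem_sup (Subgroup.mem_subgroupOf.1 this) k.2
    simpa using h
  · rw [← MonoidHom.ker_eq_bot_iff, Subgroup.eq_bot_iff_forall]
    intro k hk
    have h : Subgroup.inclusion K0_le_C0 k ∈ Q0.subgroupOf C0 := ker_act.le hk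
    exact Subtype.ext (Subgroup.mem_bot.1 (K0_inf_Q0.le (Subgroup.mem_inf.2 ⟨Subgroup.mem_subgroupOf.1 h, k.2⟩)))

end CfsgLib.Golay.OctadInvol
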