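import Cfsg.Agent.Lib.Golay.InvolLocal.OctadInvolCert
import Cfsg.Agent.Lib.Golay.Octads
import Cfsg.Agent.Lib.Classical.Card
import Cfsg.Agent.Lib.Classical.Transvection
import Cfsg.Agent.Lib.Extraspecial.LargePair
import Cfsg.Agent.Lib.Extraspecial.LargeCriteria

/-!
The centralizer in the Mathieu group of degree 24 of an involution fixing an octad: the split
extension of an extraspecial group of order 2^7 by the special linear group of degree three.
-/

set_option autoImplicit false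
set_option maxRecDepth 20000
set_option linter.style.haveILetI false

namespace CfsgLib.Golay.OctadInvol

open Cfsg CfsgLib.Golay CfsgLib.Golay.SylowTwo
open scoped Pointwise commutatorElement

attribute [local irreducible] idP toPerm mulP validP

/-- the packed generators as elements of the group -/
noncomputable def el (P : ℕ) : ↥M24 :=
  if h : toPerm P ∈ M24 then ⟨toPerm P, h⟩ else 1

theorem el_val {P : ℕ} (h : inM24 P = true) : (el P : Equiv.Perm GolayPt) = toPerm P := by
  rw [el, dif_pos (toPerm_mem_M24 h)]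

theorem valid_of_inM24' {P : ℕ} (h : inM24 P = true) : validP P = true := by
  simp only [inM24, Bool.and_eq_true] at h; exact h.1

/-- the involution -/
noncomputable def Z : ↥M24 := el zP

/-- the extraspecial group -/
noncomputable def Q0 : Subgroup ↥M24 := (HS qP).subgroupOf M24

/-- the complement -/
noncomputable def K0 : Subgroup ↥M24 := Subgroup.closure (Set.range fun k : Fin 2 => el (kP.getD k.val 0))

/-- the pointwise stabilizer of the base octad -/
noncomputable def E0 : Subgroup ↥M24 := (fixH M24 oct0).subgroupOf M24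

theorem qP_mem {P : ℕ} (h : P ∈ qP) : inM24 P = true :=
  List.all_eq_true.1 data_checks.2.1 P h

theorem kP_mem (k : Fin 2) : inM24 (kP.getD k.val 0) = true :=
  List.all_eq_true.1 data_checks.2.2.1 _ (by revert k; decide)

theorem bP_mem (j : Fin 3) : bP.getD j.val 0 ∈ qP := by revert j; decide

theorem zP_mem : zP ∈ qP := by decide

theorem hs_le : HS qP ≤ M24 := (Subgroup.closure_le _).2 fun _ ⟨_, hP, e⟩ =>
  e ▸ toPerm_mem_M24 (qP_mem hP)

theorem el_mem_Q0 {P : ℕ} (h : P ∈ qP) : el P ∈ Q0 :=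
  Subgroup.mem_subgroupOf.2 (by rw [el_val (qP_mem h)]; exact Subgroup.subset_closure ⟨P, h, rfl⟩)

theorem mem_Q0 {x : ↥M24} (h : x ∈ Q0) :
    ∃ P ∈ els qP, validP P = true ∧ (x : Equiv.Perm GolayPt) = toPerm P := by
  obtain ⟨P, hP, e⟩ := exists_els data_checks.1 _ (Subgroup.mem_subgroupOf.1 h)
  exact ⟨P, hP, (els_mem (validP_of_pcOK data_checks.1) P hP).1, e⟩

theorem natCard_Q0 : Nat.card Q0 = 2 ^ 7 := by
  rw [Q0, Nat.card_congr (Subgroup.subgroupOfEquivOfLe hs_le).toEquiv, card_HS data_checks.1]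
  rfl

theorem Z_val : (Z : Equiv.Perm GolayPt) = toPerm zP := el_val (qP_mem zP_mem)

theorem Z_sq : Z * Z = 1 := Subtype.ext (by
  have hv := valid_of_inM24' (qP_mem zP_mem)
  rw [Subgroup.coe_mul, Subgroup.coe_one, Z_val, ← toPerm_mulP hv hv, ← toPerm_idP]
  exact toPerm_eq_of_eqP (validP_mulP hv hv) validP_idP conj_checks.2.2.2.2.2.2.2.2)

theorem Z_ne : Z ≠ 1 := fun h => by
  have hv := valid_of_inM24' (qP_mem zP_mem)
  have h1 := congrArg Subtype.val h
  rw [Z_val, Subgroup.coe_one, ← toPerm_idP] at h1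
  have := conj_checks.2.2.2.2.2.2.2.1
  rw [eqP_of_toPerm_eq hv validP_idP h1] at this
  simp at this

theorem orderOf_Z : orderOf Z = 2 := by
  haveI : Fact (Nat.Prime 2) := ⟨Nat.prime_two⟩
  exact orderOf_eq_prime (by rw [pow_two, Z_sq]) Z_ne

theorem mem_zpowers_Z {x : ↥M24} : x ∈ Subgroup.zpowers Z ↔ x = 1 ∨ x = Z := by
  constructor
  · intro h
    obtain ⟨n, rfl⟩ := Subgroup.mem_zpowers_iff.1 h
    rcases Int.even_or_odd' n with ⟨m, rfl | rfl⟩
    · exact Or.inl (by rw [zpow_mul, zpow_two, Z_sq, one_zpow])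
    · exact Or.inr (by rw [zpow_add, zpow_mul, zpow_two, Z_sq, one_zpow, one_mul, zpow_one])
  · rintro (rfl | rfl)
    · exact one_mem _
    · exact Subgroup.mem_zpowers _

theorem fix_Z (p : GolayPt) : (Z : Equiv.Perm GolayPt) p = p ↔ p ∈ dec oct0 := by
  have h := List.all_eq_true.1 data_checks.2.2.2.2.2.1 (idx p) (List.mem_range.2 (idx_lt p))
  rw [beq_iff_eq] at h
  rw [mem_dec, h, beq_iff_eq, Z_val, ← idx_toPerm (valid_of_inM24' (qP_mem zP_mem))]
  exact ⟨fun e => by rw [e], fun e => idx_injective e⟩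

/-- the centralizer keeps the octad -/
theorem smul_oct0_of_comm {x : ↥M24} (hx : x * Z = Z * x) :
    (x : Equiv.Perm GolayPt) • dec oct0 = dec oct0 := by
  refine Finset.eq_of_subset_of_card_le (fun q hq => ?_) (by rw [Finset.card_smul_finset])
  obtain ⟨p, hp, rfl⟩ := Finset.mem_smul_finset.1 hq
  rw [← fix_Z] at hp ⊢
  have h := Equiv.ext_iff.1 (congrArg Subtype.val hx) p
  simp only [Subgroup.coe_mul, Equiv.Perm.mul_apply, hp] at h
  exact h.symm

theorem conj_E0 {x : ↥M24} (hx : (x : Equiv.Perm GolayPt) • dec oct0 = dec oct0) {e : ↥M24}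
    (he : e ∈ E0) : x * e * x⁻¹ ∈ E0 := by
  refine Subgroup.mem_subgroupOf.2 (mem_fixH.2 ⟨(x * e * x⁻¹).2, fun p hp => ?_⟩)
  obtain ⟨q, hq, rfl⟩ := Finset.mem_smul_finset.1 (hx.symm ▸ hp)
  simp only [Subgroup.coe_mul, InvMemClass.coe_inv, Equiv.Perm.mul_apply, Equiv.Perm.smul_def,
    Equiv.Perm.inv_def, Equiv.symm_apply_apply]
  rw [(mem_fixH.1 (Subgroup.mem_subgroupOf.1 he)).2 q hq]

theorem natCard_E0 : Nat.card E0 = 16 := by
  rw [E0, Nat.card_congr (Subgroup.subgroupOfEquivOfLe fun g hg => (mem_fixH.1 hg).1).toEquiv]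
  rw [show fixH M24 oct0 = fixH M24 F6 from fix_oct0_eq, natCard_fixF6]

theorem sq_E0 {e : ↥M24} (he : e ∈ E0) : e * e = 1 := Subtype.ext (by
  have h := Subgroup.mem_subgroupOf.1 he
  rw [show fixH M24 oct0 = fixH M24 F6 from fix_oct0_eq] at h
  exact sq_fixF6 h)

theorem E0_eq : E0 = (HS (qP.drop 3)).subgroupOf M24 := by
  have hok := pcOK_drop 3 data_checks.1
  have hle : HS (qP.drop 3) ≤ fixH M24 oct0 := by
    refine (Subgroup.closure_le _).2 ?_
    rintro _ ⟨P, hP, rfl⟩
    have hPq := List.mem_of_mem_drop hP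
    rw [data_checks.2.2.2.1] at hP
    exact mem_fixH.2 ⟨toPerm_mem_M24 (qP_mem hPq), fun p hp =>
      fixes_apply (valid_of_inM24' (qP_mem hPq)) (List.all_eq_true.1 data_checks.2.2.2.2.1 P hP) hp⟩
  have h : HS (qP.drop 3) = fixH M24 oct0 := by
    refine Subgroup.eq_of_le_of_card_ge hle (le_of_eq ?_)
    rw [card_HS hok, show fixH M24 oct0 = fixH M24 F6 from fix_oct0_eq, natCard_fixF6]
    rfl
  rw [E0, h]

theorem E0_le_Q0 : E0 ≤ Q0 := by
  rw [E0_eq]
  have hle : HS (qP.drop 3) ≤ HS qP :=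
    Subgroup.closure_mono fun σ ⟨P, hP, e⟩ => ⟨P, List.mem_of_mem_drop hP, e⟩
  exact fun x hx => Subgroup.mem_subgroupOf.2 (hle (Subgroup.mem_subgroupOf.1 hx))

theorem el_mem_E0 {P : ℕ} (h : P ∈ bP ++ [zP]) : el P ∈ E0 := by
  rw [E0_eq]
  have hq : P ∈ qP := List.mem_of_mem_drop (i := 3) (by rw [data_checks.2.2.2.1]; exact h)
  exact Subgroup.mem_subgroupOf.2 (by
    rw [el_val (qP_mem hq)]
    exact Subgroup.subset_closure ⟨P, by rw [data_checks.2.2.2.1]; exact h, rfl⟩)

theorem comm_E0 {a b : ↥M24} (ha : a ∈ E0) (hb : b ∈ E0) : a * b = b * a := by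
  rw [← inv_eq_of_mul_eq_one_right (sq_E0 (mul_mem ha hb)), mul_inv_rev,
    inv_eq_of_mul_eq_one_right (sq_E0 ha), inv_eq_of_mul_eq_one_right (sq_E0 hb)]

theorem el_eq {P R : ℕ} (hP : inM24 P = true) (hR : inM24 R = true) (h : eqP P R = true) :
    el P = el R :=
  Subtype.ext (by rw [el_val hP, el_val hR]; exact toPerm_eq_of_eqP (valid_of_inM24' hP) (valid_of_inM24' hR) h)

theorem val_eq_of_eqP {x y : ↥M24} {P R : ℕ} (hx : (x : Equiv.Perm GolayPt) = toPerm P)
    (hy : (y : Equiv.Perm GolayPt) = toPerm R) (hP : validP P = true) (hR : validP R = true)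
    (h : eqP P R = true) : x = y :=
  Subtype.ext (by rw [hx, hy, toPerm_eq_of_eqP hP hR h])

theorem val_mul {x y : ↥M24} {P R : ℕ} (hx : (x : Equiv.Perm GolayPt) = toPerm P)
    (hy : (y : Equiv.Perm GolayPt) = toPerm R) (hP : validP P = true) (hR : validP R = true) :
    ((x * y : ↥M24) : Equiv.Perm GolayPt) = toPerm (mulP P R) := by
  rw [Subgroup.coe_mul, hx, hy, toPerm_mulP hP hR]

/-- the centralizer of the involution -/
noncomputable abbrev C0 : Subgroup ↥M24 := Subgroup.centralizer ({Z} : Set ↥M24)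

theorem el_comm_Z {P : ℕ} (hP : inM24 P = true) (h : eqP (mulP P zP) (mulP zP P) = true) :
    el P ∈ C0 := by
  rw [Subgroup.mem_centralizer_singleton_iff]
  have hv := valid_of_inM24' hP
  have hz := valid_of_inM24' (qP_mem zP_mem)
  exact val_eq_of_eqP (val_mul (el_val hP) Z_val hv hz) (val_mul Z_val (el_val hP) hz hv)
    (validP_mulP hv hz) (validP_mulP hz hv) h

theorem Q0_le_of {H : Subgroup ↥M24} (h : ∀ P ∈ qP, el P ∈ H) : Q0 ≤ H := by
  intro x hx
  have hle : HS qP ≤ H.map M24.subtype := (Subgroup.closure_le _).2 fun _ ⟨P, hP, e⟩ =>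
    ⟨el P, h P hP, by rw [e]; exact el_val (qP_mem hP)⟩
  obtain ⟨y, hy, e⟩ := hle (Subgroup.mem_subgroupOf.1 hx)
  rwa [← Subtype.ext (show (y : Equiv.Perm GolayPt) = x from e)]

theorem Q0_le_C0 : Q0 ≤ C0 := Q0_le_of fun P hP =>
  el_comm_Z (qP_mem hP) (List.all_eq_true.1 data_checks.2.2.2.2.2.2.1 P hP)

theorem K0_le_C0 : K0 ≤ C0 := by
  refine (Subgroup.closure_le _).2 ?_
  rintro _ ⟨k, rfl⟩
  have h := List.all_eq_true.1 data_checks.2.2.2.2.2.2.2 _ (show kP.getD k.val 0 ∈ kP by revert k; decide)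
  simp only [Bool.and_eq_true] at h
  exact el_comm_Z (kP_mem k) h.1.1

theorem K0_inf_Q0 : Q0 ⊓ K0 = ⊥ := by
  rw [Subgroup.eq_bot_iff_forall]
  intro x hx
  obtain ⟨hxQ, hxK⟩ := Subgroup.mem_inf.1 hx
  have hfix : ∀ i, i = 23 ∨ i = 4 → (x : Equiv.Perm GolayPt) (pt i) = pt i := by
    intro i hi
    have hle : K0 ≤ MulAction.stabilizer ↥M24 (pt i) := by
      refine (Subgroup.closure_le _).2 ?_
      rintro _ ⟨k, rfl⟩
      have h := List.all_eq_true.1 data_checks.2.2.2.2.2.2.2 _ (show kP.getD k.val 0 ∈ kP by revert k; decide)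
      simp only [Bool.and_eq_true, beq_iff_eq] at h
      show (el (kP.getD k.val 0) : Equiv.Perm GolayPt) (pt i) = pt i
      refine idx_injective ?_
      rw [el_val (kP_mem k), idx_toPerm (valid_of_inM24' (kP_mem k))]
      rcases hi with rfl | rfl <;> rw [idx_pt _ (by norm_num)]
      · exact h.1.2
      · exact h.2
    exact hle hxK
  obtain ⟨P, hP, hv, e⟩ := mem_Q0 hxQ
  have h := List.all_eq_true.1 els_checks.1 P hP
  have h23 := hfix 23 (Or.inl rfl)
  have h4 := hfix 4 (Or.inr rfl)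
  rw [e] at h23 h4
  apply_fun idx at h23 h4
  rw [idx_toPerm hv, idx_pt _ (by norm_num)] at h23 h4
  simp only [Bool.or_eq_true, bne_iff_ne, h23, h4, ne_eq, not_true, or_false] at h
  exact Subtype.ext (by rw [e, Subgroup.coe_one, ← toPerm_idP]; exact toPerm_eq_of_eqP hv validP_idP h)

theorem natCard_stab_oct {o : Finset GolayPt} (ho : o ∈ octads) :
    Nat.card ↥(MulAction.stabilizer M24 o) = 322560 := by
  have h := Nat.card_congr (MulAction.orbitProdStabilizerEquivGroup M24 o)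
  rw [Nat.card_prod, natCard_M24, Nat.card_coe_set_eq] at h
  have horb : MulAction.orbit M24 o = octads := by
    ext x
    constructor
    · rintro ⟨g, rfl⟩; exact smul_mem_octads g.2 ho
    · intro hx; exact octad_transitive ho hx
  rw [horb, ncard_octads] at h
  omega

/-- at most 21504 elements centralize the involution -/
theorem natCard_C0_le : Nat.card C0 ≤ 21504 := by
  have hO : dec oct0 ∈ octads := by
    exact dec_mem_octads (by decide +kernel) (by decide +kernel)
  let H : Subgroup ↥M24 := MulAction.stabilizer M24 (dec oct0)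
  have hcc := conj_checks.2.2.1
  simp only [List.all_eq_true, List.mem_range, Bool.and_eq_true, Bool.or_eq_true,
    Bool.not_eq_true', beq_iff_eq] at hcc
  let g : Fin 15 → ↥M24 := fun i => el (conjP.getD i.val 0)
  have hgH : ∀ i, g i ∈ H := fun i => by
    show (el (conjP.getD i.val 0) : Equiv.Perm GolayPt) • dec oct0 = dec oct0
    rw [el_val (hcc i.val i.2).1.1.1.1.1, smul_dec (valid_of_inM24' (hcc i.val i.2).1.1.1.1.1),
      (hcc i.val i.2).1.1.1.1.2]
  have hconj : ∀ i : Fin 15, ((g i * Z * (g i)⁻¹ : ↥M24) : Equiv.Perm GolayPt) =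
      toPerm (nzP.getD i.val 0) := fun i => by
    obtain ⟨⟨⟨⟨⟨hM, -⟩, he⟩, hv⟩, -⟩, -⟩ := hcc i.val i.2
    have hg := valid_of_inM24' hM
    have hz := valid_of_inM24' (qP_mem zP_mem)
    rw [Subgroup.coe_mul, InvMemClass.coe_inv, Subgroup.coe_mul, el_val hM, Z_val, mul_inv_eq_iff_eq_mul,
      ← toPerm_mulP hg hz, ← toPerm_mulP hv hg]
    exact toPerm_eq_of_eqP (validP_mulP hg hz) (validP_mulP hv hg) he
  let f : C0 × Fin 15 → H := fun t => ⟨g t.2 * t.1.1,
    mul_mem (hgH t.2) (smul_oct0_of_comm (Subgroup.mem_centralizer_singleton_iff.1 t.1.2))⟩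
  have hinj : Function.Injective f := by
    rintro ⟨x, i⟩ ⟨y, j⟩ h
    have h' : g i * x.1 = g j * y.1 := congrArg Subtype.val h
    have hxy : g i * Z * (g i)⁻¹ = g j * Z * (g j)⁻¹ := by
      calc g i * Z * (g i)⁻¹ = g i * (x.1 * Z) * x.1⁻¹ * (g i)⁻¹ := by
            rw [Subgroup.mem_centralizer_singleton_iff.1 x.2]; group
        _ = (g i * x.1) * Z * (g i * x.1)⁻¹ := by group
        _ = g j * (y.1 * Z) * y.1⁻¹ * (g j)⁻¹ := by rw [h']; group
        _ = _ := by rw [Subgroup.mem_centralizer_singleton_iff.1 y.2]; group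
    obtain rfl : i = j := by
      by_contra hne
      have e := congrArg Subtype.val hxy
      rw [hconj, hconj] at e
      have := eqP_of_toPerm_eq (hcc i.val i.2).1.1.2 (hcc j.val j.2).1.1.2 e
      rcases (hcc i.val i.2).2 j.val j.2 with h2 | h2
      · exact hne (Fin.ext h2)
      · rw [this] at h2; simp at h2
    exact Prod.ext (Subtype.ext (mul_left_cancel h')) rfl
  have h := Nat.card_le_card_of_injective f hinj
  rw [Nat.card_prod, Nat.card_fin, natCard_stab_oct hO] at h
  omega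

/-! ### The action on the pointwise stabilizer modulo the involution -/

/-- an element of exponent two, raised to residues -/
theorem pow_val_add {G : Type*} [Group G] {x : G} (hx : x * x = 1) (a b : ZMod 2) :
    x ^ (a + b).val = x ^ a.val * x ^ b.val := by
  rw [← pow_add, ZMod.val_add, ← pow_eq_pow_mod (a.val + b.val) (by rw [pow_two, hx])]

theorem bP_mem' (j : Fin 3) : bP.getD j.val 0 ∈ bP ++ [zP] := by revert j; decide

/-- the basis elements -/
noncomputable def ebase (j : Fin 3) : ↥E0 := ⟨el (bP.getD j.val 0), el_mem_E0 (bP_mem' j)⟩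

/-- the involution in the pointwise stabilizer -/
noncomputable def Ze : ↥E0 := ⟨Z, el_mem_E0 (by decide)⟩

theorem ebase_val (j : Fin 3) :
    ((ebase j : ↥M24) : Equiv.Perm GolayPt) = toPerm (bP.getD j.val 0) := el_val (qP_mem (bP_mem j))

theorem Ze_val : (Ze : ↥M24) = Z := rfl

/-- coordinates on the pointwise stabilizer -/
noncomputable def psi : Multiplicative ((Fin 3 → ZMod 2) × ZMod 2) →* ↥E0 :=
  MonoidHom.mk' (fun t =>
    ebase 0 ^ (t.toAdd.1 0).val * (ebase 1 ^ (t.toAdd.1 1).val *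
    (ebase 2 ^ (t.toAdd.1 2).val * Ze ^ t.toAdd.2.val))) fun s t => by
    have hc : ∀ a b : ↥E0, Commute a b := fun a b => Subtype.ext (comm_E0 a.2 b.2)
    have hq : ∀ a : ↥E0, a * a = 1 := fun a => Subtype.ext (sq_E0 a.2)
    simp only [toAdd_mul, Prod.fst_add, Prod.snd_add, Pi.add_apply, pow_val_add (hq _)]
    have key : ∀ a a' r r' : ↥E0, a * a' * (r * r') = a * r * (a' * r') := fun a a' r r' =>
      (hc a' r).mul_mul_mul_comm a r'
    rw [key (ebase 2 ^ _), key (ebase 1 ^ _), key (ebase 0 ^ _)]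

/-- the lift of a vector -/
noncomputable def iota (v : Fin 3 → ZMod 2) : ↥M24 := psi (Multiplicative.ofAdd (v, 0))

theorem psi_bijective : Function.Bijective psi := by
  have hsurj : Function.Surjective psi := by
    intro x
    have hle : HS (qP.drop 3) ≤ (psi.range.map E0.subtype).map M24.subtype := by
      refine (Subgroup.closure_le _).2 ?_
      rintro _ ⟨P, hP, rfl⟩
      rw [data_checks.2.2.2.1] at hP
      have hb : bP = [bP.getD 0 0, bP.getD 1 0, bP.getD 2 0] := rfl
      rw [hb] at hP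
      simp only [List.cons_append, List.nil_append, List.mem_cons, List.not_mem_nil, or_false] at hP
      rcases hP with rfl | rfl | rfl | rfl
      · exact ⟨_, ⟨_, ⟨Multiplicative.ofAdd (![1, 0, 0], 0), rfl⟩, rfl⟩, by
          simp [psi, ZMod.val_one, ebase_val, -List.getD_eq_getElem?_getD]⟩
      · exact ⟨_, ⟨_, ⟨Multiplicative.ofAdd (![0, 1, 0], 0), rfl⟩, rfl⟩, by
          simp [psi, ZMod.val_one, ebase_val, -List.getD_eq_getElem?_getD]⟩
      · exact ⟨_, ⟨_, ⟨Multiplicative.ofAdd (![0, 0, 1], 0), rfl⟩, rfl⟩, by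
          simp [psi, ZMod.val_one, ebase_val, -List.getD_eq_getElem?_getD]⟩
      · exact ⟨_, ⟨_, ⟨Multiplicative.ofAdd (![0, 0, 0], 1), rfl⟩, rfl⟩, by
          simp [psi, ZMod.val_one, Ze_val, Z_val]⟩
    have hx := hle (Subgroup.mem_subgroupOf.1 (E0_eq.le x.2))
    obtain ⟨y, ⟨w, ⟨t, rfl⟩, rfl⟩, hyx⟩ := hx
    exact ⟨t, Subtype.ext (Subtype.ext hyx)⟩
  refine ⟨?_, hsurj⟩
  refine ((Nat.bijective_iff_surjective_and_card psi).2 ⟨hsurj, ?_⟩).1
  rw [natCard_E0, Nat.card_eq_fintype_card]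
  rfl

theorem psi_zero_one : (psi (Multiplicative.ofAdd (0, 1)) : ↥M24) = Z := by
  simp [psi, ZMod.val_one, Ze_val]

theorem iota_add (v w : Fin 3 → ZMod 2) : iota (v + w) = iota v * iota w := by
  rw [iota, iota, iota, ← Subgroup.coe_mul, ← map_mul, ← ofAdd_add, Prod.mk_add_mk, add_zero]

/-- `M` describes conjugation by `x` modulo the involution -/
def Acts (x : ↥M24) (M : Matrix (Fin 3) (Fin 3) (ZMod 2)) : Prop :=
  ∀ v, ∃ c : ℕ, x * iota v * x⁻¹ = iota (M.mulVec v) * Z ^ c

theorem iota_injective {v w : Fin 3 → ZMod 2} {c d : ℕ} (h : iota v * Z ^ c = iota w * Z ^ d) :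
    v = w := by
  have hz : ∀ (u : Fin 3 → ZMod 2) (n : ℕ), iota u * Z ^ n = (psi (Multiplicative.ofAdd (u, (n : ZMod 2))) : ↥M24) := by
    intro u n
    rw [iota, ← psi_zero_one, ← SubmonoidClass.coe_pow, ← Subgroup.coe_mul, ← map_pow, ← map_mul,
      ← ofAdd_nsmul, ← ofAdd_add]
    simp
  rw [hz, hz] at h
  exact (Prod.ext_iff.1 (Multiplicative.ofAdd.injective (psi_bijective.1 (Subtype.ext h)))).1

theorem acts_unique {x : ↥M24} {M N : Matrix (Fin 3) (Fin 3) (ZMod 2)} (hM : Acts x M) (hN : Acts x N) :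
    M = N :=
  Matrix.ext_iff_mulVec.2 fun v => by
    obtain ⟨c, hc⟩ := hM v
    obtain ⟨d, hd⟩ := hN v
    exact iota_injective (hc.symm.trans hd)

theorem Z_pow_conj {x : ↥M24} (hx : x ∈ C0) (n : ℕ) : x * Z ^ n * x⁻¹ = Z ^ n := by
  rw [((show Commute x Z from Subgroup.mem_centralizer_singleton_iff.1 hx).pow_right n).eq,
    mul_inv_cancel_right]

theorem acts_of_cols {x : ↥M24} {M : Matrix (Fin 3) (Fin 3) (ZMod 2)}
    (h : ∀ j, ∃ c : ℕ, x * iota (Pi.single j 1) * x⁻¹ = iota (fun i => M i j) * Z ^ c) : Acts x M := by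
  have hzc : ∀ v (n : ℕ), Z ^ n * iota v = iota v * Z ^ n := fun v n =>
    comm_E0 (pow_mem (el_mem_E0 (by decide)) n) (psi _).2
  intro v
  rw [← Finset.univ_sum_single v]
  refine Finset.sum_induction _ (fun u => ∃ c : ℕ, x * iota u * x⁻¹ = iota (M.mulVec u) * Z ^ c)
    ?_ ⟨0, ?_⟩ fun i _ => ?_
  · rintro a b ⟨c, hc⟩ ⟨d, hd⟩
    refine ⟨c + d, ?_⟩
    rw [Matrix.mulVec_add, iota_add, iota_add]
    calc x * (iota a * iota b) * x⁻¹ = (x * iota a * x⁻¹) * (x * iota b * x⁻¹) := by group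
      _ = iota (M.mulVec a) * (Z ^ c * iota (M.mulVec b)) * Z ^ d := by rw [hc, hd]; group
      _ = _ := by rw [hzc, pow_add]; group
  · simp [iota, ← Prod.zero_eq_mk]
  · rcases (show v i = 0 ∨ v i = 1 by generalize v i = a; revert a; decide) with e | e <;> rw [e]
    · exact ⟨0, by simp [iota, ← Prod.zero_eq_mk]⟩
    · rw [Matrix.mulVec_single_one]
      exact h i

theorem exists_acts {x : ↥M24} (hx : x ∈ C0) : ∃ M, Acts x M := by
  have h : ∀ j : Fin 3, ∃ t : Multiplicative ((Fin 3 → ZMod 2) × ZMod 2),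
      x * iota (Pi.single j 1) * x⁻¹ = psi t := by
    intro j
    obtain ⟨t, ht⟩ := psi_bijective.2 ⟨_, conj_E0
      (smul_oct0_of_comm (Subgroup.mem_centralizer_singleton_iff.1 hx)) (psi (Multiplicative.ofAdd (Pi.single j 1, 0))).2⟩
    exact ⟨t, (congrArg Subtype.val ht).symm⟩
  choose t ht using h
  refine ⟨Matrix.of fun i j => (t j).toAdd.1 i, acts_of_cols fun j => ⟨(t j).toAdd.2.val, ?_⟩⟩
  rw [ht j, iota, ← psi_zero_one, ← SubmonoidClass.coe_pow, ← Subgroup.coe_mul, ← map_pow, ← map_mul,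
    ← ofAdd_nsmul, ← ofAdd_add]
  congr 2
  refine Multiplicative.toAdd.injective (Prod.ext ?_ ?_)
  · simp
  · simp

theorem acts_one : Acts 1 1 := fun v => ⟨0, by simp⟩

theorem acts_mul {x y : ↥M24} (hx : x ∈ C0) {M N : Matrix (Fin 3) (Fin 3) (ZMod 2)} (hM : Acts x M)
    (hN : Acts y N) : Acts (x * y) (M * N) := fun v => by
  obtain ⟨c, hc⟩ := hN v
  obtain ⟨d, hd⟩ := hM (N.mulVec v)
  refine ⟨d + c, ?_⟩
  calc x * y * iota v * (x * y)⁻¹ = x * (y * iota v * y⁻¹) * x⁻¹ := by group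
    _ = (x * iota (N.mulVec v) * x⁻¹) * (x * Z ^ c * x⁻¹) := by rw [hc]; group
    _ = _ := by rw [hd, Z_pow_conj hx, ← Matrix.mulVec_mulVec, pow_add, mul_assoc]

theorem det_eq_one {x : ↥M24} (hx : x ∈ C0) {M : Matrix (Fin 3) (Fin 3) (ZMod 2)} (hM : Acts x M) :
    M.det = 1 := by
  obtain ⟨N, hN⟩ := exists_acts (inv_mem hx)
  have h := acts_mul hx hM hN
  rw [mul_inv_cancel] at h
  have h1 := congrArg Matrix.det (acts_unique h acts_one)
  rw [Matrix.det_mul, Matrix.det_one] at h1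
  revert h1
  generalize M.det = a
  generalize N.det = b
  revert a b
  decide

/-- the matrix of an element of the centralizer -/
noncomputable def act : ↥C0 →* Matrix.SpecialLinearGroup (Fin 3) (ZMod 2) :=
  MonoidHom.mk' (fun x => ⟨(exists_acts x.2).choose, det_eq_one x.2 (exists_acts x.2).choose_spec⟩)
    fun x y => Subtype.ext (acts_unique (exists_acts (x * y).2).choose_spec
      (acts_mul x.2 (exists_acts x.2).choose_spec (exists_acts y.2).choose_spec))

theorem act_eq {x : ↥C0} {M : Matrix (Fin 3) (Fin 3) (ZMod 2)} (h : Acts x M) :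
    (act x).1 = M :=
  acts_unique (exists_acts x.2).choose_spec h

theorem iota_single (j : Fin 3) :
    (iota (Pi.single j 1) : Equiv.Perm GolayPt) = toPerm (bP.getD j.val 0) := by
  fin_cases j <;> simp [iota, psi, ZMod.val_one, ebase_val, -List.getD_eq_getElem?_getD]

theorem basisP_spec (a b c : ZMod 2) : validP (basisP a.val b.val c.val) = true ∧
    (iota ![a, b, c] : Equiv.Perm GolayPt) = toPerm (basisP a.val b.val c.val) := by
  have h0 : inM24 (bP.getD 0 0) = true := qP_mem (bP_mem 0)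
  have h1 : inM24 (bP.getD 1 0) = true := qP_mem (bP_mem 1)
  have h2 : inM24 (bP.getD 2 0) = true := qP_mem (bP_mem 2)
  obtain ⟨v0, e0⟩ := toPerm_powP (valid_of_inM24' h0) a.val
  obtain ⟨v1, e1⟩ := toPerm_powP (valid_of_inM24' h1) b.val
  obtain ⟨v2, e2⟩ := toPerm_powP (valid_of_inM24' h2) c.val
  refine ⟨validP_mulP v0 (validP_mulP v1 v2), ?_⟩
  rw [basisP, toPerm_mulP v0 (validP_mulP v1 v2), toPerm_mulP v1 v2, e0, e1, e2]
  simp [iota, psi, ebase_val, -List.getD_eq_getElem?_getD]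

theorem gen_acts (k : Fin 2) : Acts (el (kP.getD k.val 0)) (kMats k) := by
  refine acts_of_cols fun j => ?_
  obtain ⟨c, hc⟩ := k_action k j
  refine ⟨c.val, ?_⟩
  have hk := valid_of_inM24' (kP_mem k)
  have hb := valid_of_inM24' (qP_mem (bP_mem j))
  obtain ⟨hvz, hez⟩ := toPerm_powP (valid_of_inM24' (qP_mem zP_mem)) c.val
  obtain ⟨hvi, hei⟩ := basisP_spec (kMats k 0 j) (kMats k 1 j) (kMats k 2 j)
  rw [mul_inv_eq_iff_eq_mul, show (fun i => kMats k i j) = ![kMats k 0 j, kMats k 1 j, kMats k 2 j] by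
    funext i; fin_cases i <;> rfl]
  exact val_eq_of_eqP (val_mul (el_val (kP_mem k)) (iota_single j) hk hb)
    (val_mul (val_mul hei (show ((Z ^ c.val : ↥M24) : Equiv.Perm GolayPt) = _ by
      rw [SubmonoidClass.coe_pow, Z_val, ← hez]) hvi hvz) (el_val (kP_mem k)) (validP_mulP hvi hvz) hk)
    (validP_mulP hk hb) (validP_mulP (validP_mulP hvi hvz) hk) hc

theorem natCard_SL32 : Nat.card (Matrix.SpecialLinearGroup (Fin 3) (ZMod 2)) = 168 := by
  have h := CfsgLib.Classical.sub_one_mul_card_SL (F := ZMod 2) (n := 3) (by norm_num)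
  simp [-Nat.card_eq_fintype_card, Fin.prod_univ_three] at h
  omega

theorem act_K0_surjective : Function.Surjective (act.comp (Subgroup.inclusion K0_le_C0)) := by
  classical
  set f := act.comp (Subgroup.inclusion K0_le_C0)
  let g : Fin 2 → ↥K0 := fun k => ⟨el (kP.getD k.val 0), Subgroup.subset_closure ⟨k, rfl⟩⟩
  have hf : ∀ w : List (Fin 2), (f (w.map g).prod).1 = (w.map kMats).prod := by
    intro w
    induction w with
    | nil => simp
    | cons k w ih =>
      rw [List.map_cons, List.prod_cons, map_mul, Matrix.SpecialLinearGroup.coe_mul, ih, List.map_cons,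
        List.prod_cons]
      congr 1
      exact act_eq (gen_acts k)
  obtain ⟨hw, hlen, hlt⟩ := word_codes
  let L := wordTab.map fun t => f (t.2.map g).prod
  have hnd : L.Nodup := by
    refine List.Nodup.of_map (fun A => mcode A.1) ?_
    rw [List.map_map]
    simp only [Function.comp_def, hf]
    rw [hw]
    exact hlt.imp fun h => h.ne
  have huniv : L.toFinset = Finset.univ := by
    refine Finset.eq_univ_of_card _ ?_
    rw [List.toFinset_card_of_nodup hnd, List.length_map, hlen, ← Nat.card_eq_fintype_card, natCard_SL32]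
  intro M
  obtain ⟨t, -, ht⟩ := List.mem_map.1 (List.mem_toFinset.1 (huniv ▸ Finset.mem_univ M))
  exact ⟨_, ht⟩

theorem Q0_le_ker : Q0.subgroupOf C0 ≤ act.ker := by
  have h : Q0 ≤ act.ker.map C0.subtype := by
    refine Q0_le_of fun P hP => ⟨⟨el P, Q0_le_C0 (el_mem_Q0 hP)⟩, ?_, rfl⟩
    refine MonoidHom.mem_ker.2 (Subtype.ext ?_)
    refine (act_eq (acts_of_cols fun j => ?_)).trans Matrix.SpecialLinearGroup.coe_one.symm
    have hP' := qP_mem hP
    have hv := valid_of_inM24' hP'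
    have hb := valid_of_inM24' (qP_mem (bP_mem j))
    have hz := valid_of_inM24' (qP_mem zP_mem)
    have hq := List.all_eq_true.1 (List.all_eq_true.1 q_action P hP) (bP.getD j.val 0) (by clear * - ; revert j; decide)
    rw [Bool.or_eq_true] at hq
    rw [show (fun i => (1 : Matrix (Fin 3) (Fin 3) (ZMod 2)) i j) = Pi.single j 1 by
      funext i; simp [Matrix.one_apply, Pi.single_apply]]
    rcases hq with e | e
    · refine ⟨0, ?_⟩
      rw [pow_zero, mul_one, mul_inv_eq_iff_eq_mul]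
      exact val_eq_of_eqP (val_mul (el_val hP') (iota_single j) hv hb)
        (val_mul (iota_single j) (el_val hP') hb hv) (validP_mulP hv hb) (validP_mulP hb hv) e
    · refine ⟨1, ?_⟩
      rw [pow_one, mul_inv_eq_iff_eq_mul]
      exact val_eq_of_eqP (val_mul (el_val hP') (iota_single j) hv hb)
        (val_mul (val_mul (iota_single j) Z_val hb hz) (el_val hP') (validP_mulP hb hz) hv)
        (validP_mulP hv hb) (validP_mulP (validP_mulP hb hz) hv) e
  intro x hx
  obtain ⟨y, hy, e⟩ := h hx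
  rwa [← Subtype.ext (show (y : ↥M24) = x from e)]

theorem ker_act : act.ker = Q0.subgroupOf C0 := by
  refine (Subgroup.eq_of_le_of_card_ge Q0_le_ker ?_).symm
  have h := act.ker.card_mul_index
  rw [Subgroup.index_ker, MonoidHom.range_eq_top.2 (Function.Surjective.of_comp (g := Subgroup.inclusion K0_le_C0) (f := act) act_K0_surjective),
    Subgroup.card_top, natCard_SL32] at h
  have := natCard_C0_le
  rw [Nat.card_congr (Subgroup.subgroupOfEquivOfLe Q0_le_C0).toEquiv, natCard_Q0]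
  omega

end CfsgLib.Golay.OctadInvol
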